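import Mathlib

/-!
Uniqueness of morphisms of Postnikov systems.
-/

universe v u

open CategoryTheory CategoryTheory.Limits Pretriangulated

namespace Groth.Agent.Postnikov

variable {D : Type u} [Category.{v} D] [Preadditive D] [HasZeroObject D] [HasShift D ℤ]
  [∀ n : ℤ, (shiftFunctor D n).Additive] [Pretriangulated D]

theorem eq_zero_adj {A B : D} (i : ℤ) (h : ∀ ψ : A ⟶ B⟦-i⟧, ψ = 0) (ψ : A⟦i⟧ ⟶ B) : ψ = 0 :=
  ((shiftEquiv' D i (-i) (add_neg_cancel i)).toAdjunction.homEquiv A B).injective ((h _).trans (h _).symm)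

theorem eq_zero_adj' {A B : D} (i : ℤ) (h : ∀ ψ : A⟦-i⟧ ⟶ B, ψ = 0) (ψ : A ⟶ B⟦i⟧) : ψ = 0 :=
  ((shiftEquiv' D (-i) i (neg_add_cancel i)).toAdjunction.homEquiv A B).symm.injective ((h _).trans (h _).symm)

theorem exists_factor_c {Y₁ X₁ Y₀ W : D} {a : Y₁ ⟶ X₁} {b : X₁ ⟶ Y₀} {c : Y₀ ⟶ Y₁⟦(1 : ℤ)⟧}
    (hT : Triangle.mk a b c ∈ distTriang _) (φ : W ⟶ Y₁) (h : φ ≫ a = 0) :
    ∃ χ : W⟦(1 : ℤ)⟧ ⟶ Y₀, φ⟦(1 : ℤ)⟧' = χ ≫ c :=
  Triangle.coyoneda_exact₁ (Triangle.mk a b c) hT (φ⟦(1 : ℤ)⟧')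
    ((Functor.map_comp (shiftFunctor D (1 : ℤ)) φ a).symm.trans ((congrArg _ h).trans (Functor.map_zero _ _ _)))

theorem exists_factor_a {Y₁ X₁ Y₀ Z : D} {a : Y₁ ⟶ X₁} {b : X₁ ⟶ Y₀} {c : Y₀ ⟶ Y₁⟦(1 : ℤ)⟧}
    (hT : Triangle.mk a b c ∈ distTriang _) (φ : Y₁ ⟶ Z) (h : c ≫ φ⟦(1 : ℤ)⟧' = 0) :
    ∃ ψ : X₁ ⟶ Z, φ = a ≫ ψ := by
  obtain ⟨ω, hω⟩ := Triangle.yoneda_exact₃ (Triangle.mk a b c).rotate (rot_of_distTriang _ hT) (φ⟦(1 : ℤ)⟧') h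
  obtain ⟨ψ, hψ⟩ := (shiftFunctor D (1 : ℤ)).map_surjective ω
  refine ⟨-ψ, (shiftFunctor D (1 : ℤ)).map_injective ?_⟩
  refine hω.trans ?_
  change X₁ ⟶ Z at ψ
  show (-(a⟦(1 : ℤ)⟧')) ≫ ω = (shiftFunctor D (1 : ℤ)).map (a ≫ (-ψ))
  rw [← hψ, Functor.map_comp, Functor.map_neg, Preadditive.comp_neg]
  exact Preadditive.neg_comp _ _

section

variable (n : ℕ) (X : ℕ → D) (Y : ℕ → D) (a : ∀ k, Y k ⟶ X k) (b : ∀ k, X (k + 1) ⟶ Y k)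
  (c : ∀ k, Y k ⟶ (shiftFunctor D (1 : ℤ)).obj (Y (k + 1))) [IsIso (a 0)]
  (hP : ∀ k, k < n → Triangle.mk (a (k + 1)) (b k) (c k) ∈ distTriang _)

include hP in
theorem hom_eq_zero_of_src : ∀ k, k ≤ n → ∀ Z : D,
    (∀ m : ℕ, m ≤ k → ∀ ψ : X (k - m) ⟶ Z⟦(m : ℤ)⟧, ψ = 0) → ∀ φ : Y k ⟶ Z, φ = 0 := by
  intro k
  induction k with
  | zero =>
    intro _ Z h φ
    have := h 0 le_rfl (inv (a 0) ≫ φ ≫ (shiftFunctorZero D ℤ).inv.app Z)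
    rw [← cancel_epi (inv (a 0)), ← cancel_mono ((shiftFunctorZero D ℤ).inv.app Z), Category.assoc, comp_zero, zero_comp]
    exact this
  | succ k ih =>
    intro hk Z h φ
    obtain ⟨ψ, rfl⟩ := exists_factor_a (hP k (by omega)) φ (ih (by omega) _ (fun m hm χ => by
      have := h (m + 1) (by omega)
      rw [show k + 1 - (m + 1) = k - m by omega] at this
      rw [← cancel_mono ((shiftFunctorAdd' D (1 : ℤ) (m : ℤ) ((m + 1 : ℕ) : ℤ) (by push_cast; ring)).inv.app Z), zero_comp]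
      exact this _) _)
    have h0 := h 0 (Nat.zero_le _) (ψ ≫ (shiftFunctorZero D ℤ).inv.app Z)
    rw [show ψ = 0 from (cancel_mono ((shiftFunctorZero D ℤ).inv.app Z)).1 (h0.trans zero_comp.symm), comp_zero]

include hP in
theorem hom_eq_zero_of_tgt : ∀ k, k ≤ n → ∀ W : D,
    (∀ m : ℕ, m ≤ k → ∀ ψ : W⟦(m : ℤ)⟧ ⟶ X (k - m), ψ = 0) → ∀ φ : W ⟶ Y k, φ = 0 := by
  intro k
  induction k with
  | zero =>
    intro _ W h φ
    have := h 0 le_rfl ((shiftFunctorZero D ℤ).hom.app W ≫ φ ≫ a 0)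
    rw [← cancel_mono (a 0), ← cancel_epi ((shiftFunctorZero D ℤ).hom.app W), zero_comp, comp_zero]
    exact this
  | succ k ih =>
    intro hk W h φ
    have h0 : φ ≫ a (k + 1) = 0 := (cancel_epi ((shiftFunctorZero D ℤ).hom.app W)).1
      ((h 0 (Nat.zero_le _) ((shiftFunctorZero D ℤ).hom.app W ≫ φ ≫ a (k + 1))).trans comp_zero.symm)
    obtain ⟨χ, hχ⟩ := exists_factor_c (hP k (by omega)) φ h0
    refine (shiftFunctor D (1 : ℤ)).map_injective ?_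
    rw [hχ, Functor.map_zero, ih (by omega) _ (fun m hm ψ => by
      have := h (m + 1) (by omega)
      rw [show k + 1 - (m + 1) = k - m by omega] at this
      rw [← cancel_epi ((shiftFunctorAdd' D (1 : ℤ) (m : ℤ) ((m + 1 : ℕ) : ℤ) (by push_cast; ring)).hom.app W), comp_zero]
      exact this _) χ, zero_comp]

end

end Groth.Agent.Postnikov
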